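import Cfsg.Agent.Lib.HallJanko.PrimChecks
import Cfsg.Agent.Lib.HallJanko.OuterData

/-! # Kernel checks for the automorphisms of `J₂` -/

set_option autoImplicit false
set_option maxRecDepth 1000000
set_option Elab.async false

namespace Cfsg.Agent.Lib.HallJanko

def hSq (i : ℕ) : ℕ := comp4' autH (comp4' autH i)

def inRange4 (w : ℕ × ℕ × ℕ × ℕ) : Bool :=
  decide (w.1 < 100) && decide (w.2.1 < 63) && decide (w.2.2.1 < 24) && decide (w.2.2.2 < 4)

theorem range_check :
    (inRange4 autX && inRange4 autH && inRange4 autS && inRange4 autS2 &&
      centList.all inRange4 && tauImages.all inRange4 && tauImages.length == 4) = true := by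
  decide +kernel

/-- Search for elements commuting with `f`: `Q` contains all images of `f 0` under the elements fixing 0 and 1. -/
def centOrbitOK (f : ℕ → ℕ) (Q : List ℕ) : Bool :=
  levelTrans2.all fun c => levelTrans3.all fun d => Q.contains (im c (im d (f 0)))

def centCosetOK (f : ℕ → ℕ) (Q : List ℕ) (good : (ℕ → ℕ) → Bool) (i : ℕ) : Bool :=
  let a := tr0 i
  let tgt := f (im a 0)
  levelTrans1.all fun b =>
    !(Q.any fun q => im a (im b q) == tgt) ||
      levelTrans2.all fun c => levelTrans3.all fun d =>
        !([0, 1, 2, 3].all fun p => comp4 a b c d (f p) == f (comp4 a b c d p)) || good (comp4 a b c d)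
where
  comp4 (a b c d i : ℕ) : ℕ := im a (im b (im c (im d i)))

def isPowX (z : ℕ → ℕ) : Bool :=
  (List.range 7).any fun n => [0, 1, 2, 3].all fun p => z p == iterY (comp4' autX) n p
where
  iterY (f : ℕ → ℕ) : ℕ → ℕ → ℕ
    | 0, i => i
    | n + 1, i => iterY f n (f i)

def inCentList (z : ℕ → ℕ) : Bool :=
  centList.any fun w => [0, 1, 2, 3].all fun p => z p == comp4' w p

theorem orbitX_check : centOrbitOK (comp4' autX) orbitX = true := by decide +kernel

theorem orbitY_check : centOrbitOK hSq orbitY = true := by decide +kernel

theorem centX_check : ((List.range 100).all (centCosetOK (comp4' autX) orbitX isPowX)) = true := by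
  decide +kernel

theorem centY_check : ((List.range 100).all (centCosetOK hSq orbitY inCentList)) = true := by
  decide +kernel

/-- Relations: `x` has order 7, `h` order 6, `h x = x³ h`, and `s` commutes with `h²`. -/
theorem rel_check :
    ([0, 1, 2, 3].all (fun p =>
      let x := comp4' autX
      let h := comp4' autH
      let s := comp4' autS
      (x (x (x (x (x (x (x p)))))) == p) && (h (h (h (h (h (h p))))) == p) &&
        (h (x p) == x (x (x (h p)))) && (s (s p) == p) && (s (h (h p)) == h (h (s p)))) &&
      ([0, 1, 2, 3].any fun p => comp4' autX p != p) &&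
      ([0, 1, 2, 3].any fun p => comp4' autS p != p)) = true := by
  decide +kernel

def xs (c : ℕ × ℕ × ℕ × ℕ) (i : ℕ) : ℕ := comp4' autX (comp4' c i)

def iter5 (f : ℕ → ℕ) (i : ℕ) : ℕ := f (f (f (f (f i))))

def iter15 (f : ℕ → ℕ) (i : ℕ) : ℕ := iter5 f (iter5 f (iter5 f i))

theorem xs_order_check :
    (([0, 1, 2, 3].all fun p => iter15 (xs autS) p == p) &&
      ([0, 1, 2, 3].any fun p => iter5 (xs autS) p != p) &&
      ([0, 1, 2, 3].any fun p => xs autS (xs autS (xs autS p)) != p)) = true := by
  decide +kernel

theorem centFilter_check :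
    (centList.all fun c =>
      !(([0, 1, 2, 3].all fun p => comp4' c (comp4' c p) == p) &&
        ([0, 1, 2, 3].all fun p => iter15 (xs c) p == p) &&
        ([0, 1, 2, 3].any fun p => iter5 (xs c) p != p) &&
        ([0, 1, 2, 3].any fun p => xs c (xs c (xs c p)) != p)) ||
      ([0, 1, 2, 3].all fun p => comp4' c p == comp4' autS p) ||
      ([0, 1, 2, 3].all fun p => comp4' c p == comp4' autS2 p)) = true := by
  decide +kernel

/-- The outer element normalises the group, fixes `x` and `h` and moves `s`. -/
theorem tau_check :
    (okP autTau && idxList.all (fun p => im autTau (im autTau p) == p) &&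
      (List.range 4).all (fun k =>
        let w := tauImages.getD k (0, 0, 0, 0)
        idxList.all fun p => im autTau (im (gen0 k) (im autTau p)) == comp4' w p) &&
      idxList.all (fun p => im autTau (comp4' autX p) == comp4' autX (im autTau p) &&
        im autTau (comp4' autH p) == comp4' autH (im autTau p) &&
        im autTau (comp4' autS p) == comp4' autS2 (im autTau p))) = true := by
  decide +kernel

theorem tau_notMem_check :
    ((List.range 100).all fun i => im (tr0 i) 0 != im autTau 0 || levelTrans1.all fun b =>
      im (tr0 i) (im b 1) != im autTau 1 || levelTrans2.all fun c =>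
        im (tr0 i) (im b (im c 2)) != im autTau 2 || levelTrans3.all fun d =>
          idxList.any fun p => im (tr0 i) (im b (im c (im d p))) != im autTau p) = true := by
  decide +kernel

theorem gen1_moves_check :
    ((List.range 100).all fun p => p == 0 || (List.range 2).any fun a => im (gen1 a) p != p) = true := by
  decide +kernel

/-! ### A second chain, for the subgroup generated by `x`, `h` and `s` -/

def subAll : List ℕ :=
  subGens0 ++ subGens1 ++ subGens2 ++ subGens3 ++ (subTrans0 ++ subTrans1 ++ subTrans2 ++ subTrans3)

theorem subOK_check : subAll.all okP = true := by decide +kernel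

def parentOK (G T P : List ℕ) : Bool :=
  (List.range T.length).all fun i =>
    (i == 0 && idxList.all fun p => im (T.getD 0 0) p == p) ||
      let c := P.getD i 0
      decide (c &&& 7 < G.length) && decide (c >>> 3 < i) &&
        idxList.all fun p => im (T.getD i 0) p == im (G.getD (c &&& 7) 0) (im (T.getD (c >>> 3) 0) p)

def certOK (G T : List ℕ) (G' : List ℕ) (C : List (ℕ × ℕ × ℕ)) : Bool :=
  (List.range G'.length).all fun a =>
    let c := C.getD a (0, 0, 0)
    decide (c.1 < G.length) && decide (c.2.1 < T.length) && decide (c.2.2 < T.length) &&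
      idxList.all fun p => im (T.getD c.2.2 0) (im (G'.getD a 0) p) == im (G.getD c.1 0) (im (T.getD c.2.1 0) p)

def fixOK (T : List ℕ) (k : ℕ) : Bool :=
  (List.range T.length).all fun i => (List.range k).all fun p => im (T.getD i 0) p == p

def locOK (T L pts : List ℕ) (b : ℕ) : Bool :=
  (List.range pts.length).all fun i =>
    decide (L.getD i 0 < T.length) && im (T.getD (L.getD i 0) 0) b == pts.getD i 0

theorem sub_check :
    (parentOK subGens0 subTrans0 subParent0 && parentOK subGens1 subTrans1 subParent1 &&
      parentOK subGens2 subTrans2 subParent2 && parentOK subGens3 subTrans3 subParent3 &&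
      certOK subGens0 subTrans0 subGens1 subCert1 && certOK subGens1 subTrans1 subGens2 subCert2 &&
      certOK subGens2 subTrans2 subGens3 subCert3 &&
      fixOK subTrans1 1 && fixOK subTrans2 2 && fixOK subTrans3 3 &&
      locOK subTrans0 subLoc0 levelPts0 0 && locOK subTrans1 subLoc1 levelPts1 1 &&
      locOK subTrans2 subLoc2 levelPts2 2 && locOK subTrans3 subLoc3 levelPts3 3 &&
      subGens0.length == 3 &&
      idxList.all (fun p => im (subGens0.getD 0 0) p == comp4' autX p &&
        im (subGens0.getD 1 0) p == comp4' autH p && im (subGens0.getD 2 0) p == comp4' autS p)) = true := by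
  decide +kernel

end Cfsg.Agent.Lib.HallJanko
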