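import Cfsg.Agent.Lib.HallJanko.Simple
import Cfsg.Agent.Lib.HallJanko.OuterChecks
import Cfsg.Prelude.Def_KGroupFacts

/-! # The outer automorphism group of `J₂` has order two -/

set_option autoImplicit false
set_option maxRecDepth 100000

namespace Cfsg.Agent.Lib.HallJanko

open Cfsg.Spor

/-- An element given by transversal indices. -/
noncomputable def wElt (w : ℕ × ℕ × ℕ × ℕ) : G100 :=
  if h : w.1 < 100 ∧ w.2.1 < 63 ∧ w.2.2.1 < 24 ∧ w.2.2.2 < 4 then
    ⟨elt (⟨_, h.1⟩, ⟨_, h.2.1⟩, ⟨_, h.2.2.1⟩, ⟨_, h.2.2.2⟩), elt_mem _⟩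
  else 1

theorem wElt_val {w : ℕ × ℕ × ℕ × ℕ} (h : inRange4 w = true) (p : Fin 100) :
    (((wElt w).1 p : Fin 100) : ℕ) = comp4' w p := by
  simp only [inRange4, Bool.and_eq_true, decide_eq_true_eq] at h
  rw [wElt, dif_pos ⟨h.1.1.1, h.1.1.2, h.1.2, h.2⟩]
  exact (comp4'_val (⟨_, h.1.1.1⟩, ⟨_, h.1.1.2⟩, ⟨_, h.1.2⟩, ⟨_, h.2⟩) p).symm

noncomputable def gX : G100 := wElt autX
noncomputable def gH : G100 := wElt autH
noncomputable def gS : G100 := wElt autS
noncomputable def gS2 : G100 := wElt autS2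

theorem ranges : inRange4 autX = true ∧ inRange4 autH = true ∧ inRange4 autS = true ∧ inRange4 autS2 = true ∧
    (∀ c ∈ centList, inRange4 c = true) ∧ (∀ c ∈ tauImages, inRange4 c = true) ∧ tauImages.length = 4 := by
  have h := range_check
  simp only [Bool.and_eq_true, List.all_eq_true, beq_iff_eq] at h
  exact ⟨h.1.1.1.1.1.1, h.1.1.1.1.1.2, h.1.1.1.1.2, h.1.1.1.2, h.1.1.2, h.1.2, h.2⟩

theorem gX_val (p : Fin 100) : ((gX.1 p : Fin 100) : ℕ) = comp4' autX p := wElt_val ranges.1 p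
theorem gH_val (p : Fin 100) : ((gH.1 p : Fin 100) : ℕ) = comp4' autH p := wElt_val ranges.2.1 p
theorem gS_val (p : Fin 100) : ((gS.1 p : Fin 100) : ℕ) = comp4' autS p := wElt_val ranges.2.2.1 p
theorem gS2_val (p : Fin 100) : ((gS2.1 p : Fin 100) : ℕ) = comp4' autS2 p := wElt_val ranges.2.2.2.1 p

/-- Equality from the base images. -/
theorem ext_base {g g' : G100}
    (h : ∀ p : Fin 100, (p : ℕ) ∈ [0, 1, 2, 3] → g.1 p = g'.1 p) : g = g' := by
  obtain ⟨v, hv⟩ := mem_G100 g.2
  obtain ⟨w, hw⟩ := mem_G100 g'.2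
  apply Subtype.ext
  rw [hv, hw, elt_base (v := v) (w := w)
    ⟨by rw [← hv, ← hw]; exact h 0 (by simp), by rw [← hv, ← hw]; exact h 1 (by simp),
      by rw [← hv, ← hw]; exact h 2 (by simp), by rw [← hv, ← hw]; exact h 3 (by simp)⟩]

theorem base_lt {p : ℕ} (hp : p ∈ [0, 1, 2, 3]) : p < 100 := by
  simp at hp; omega

/-- The centraliser search is complete. -/
theorem cent_complete (f : ℕ → ℕ) (g : G100) (hf : ∀ p : Fin 100, ((g.1 p : Fin 100) : ℕ) = f p)
    (Q : List ℕ) (hQ : centOrbitOK f Q = true) (good : (ℕ → ℕ) → Bool)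
    (hc : (List.range 100).all (centCosetOK f Q good) = true) {z : G100} (hz : z * g = g * z) :
    ∃ F : ℕ → ℕ, (∀ p : Fin 100, ((z.1 p : Fin 100) : ℕ) = F p) ∧ good F = true := by
  obtain ⟨v, hv⟩ := mem_G100 z.2
  have hval : ∀ p : Fin 100, ((z.1 p : Fin 100) : ℕ) =
      centCosetOK.comp4 (tr0 v.1) (tr1 v.2.1) (tr2 v.2.2.1) (tr3 v.2.2.2) p := fun p => by
    rw [hv]
    simp only [centCosetOK.comp4, elt, Equiv.Perm.mul_apply, t0, t1, t2, t3, permOf_apply (ok_t0 v.1),
      permOf_apply (ok_t1 v.2.1), permOf_apply (ok_t2 v.2.2.1), permOf_apply (ok_t3 v.2.2.2)]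
  have hcomm : ∀ p : Fin 100, z.1 (g.1 p) = g.1 (z.1 p) := fun p => by
    rw [← Equiv.Perm.mul_apply, ← Equiv.Perm.mul_apply, ← Subgroup.coe_mul, hz, Subgroup.coe_mul]
  refine ⟨_, hval, ?_⟩
  have := List.all_eq_true.1 hc v.1 (List.mem_range.2 v.1.2)
  simp only [centCosetOK, List.all_eq_true, Bool.or_eq_true, Bool.not_eq_true'] at this
  have hb := this _ (getD_mem (i := v.2.1) (by rw [lengths.2.2.2.2.2.1]; exact v.2.1.2))
  rcases hb with hb | hb
  · exfalso
    rw [List.any_eq_false] at hb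
    have hq := List.all_eq_true.1 (List.all_eq_true.1 hQ _
      (getD_mem (i := v.2.2.1) (by rw [lengths.2.2.2.2.2.2.1]; exact v.2.2.1.2))) _
      (getD_mem (i := v.2.2.2) (by rw [lengths.2.2.2.2.2.2.2]; exact v.2.2.2.2))
    refine hb _ (List.contains_iff_mem.1 hq) ?_
    rw [beq_iff_eq]
    have h0 := congrArg Fin.val (hcomm 0)
    rw [hval, hf, hf, hval] at h0
    obtain ⟨f0, f1, f2, f3⟩ := t_fix
    have hz0 : centCosetOK.comp4 (tr0 v.1) (tr1 v.2.1) (tr2 v.2.2.1) (tr3 v.2.2.2) ((0 : Fin 100) : ℕ)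
        = im (tr0 v.1) 0 := by
      rw [← hval, hv]
      simp only [elt, Equiv.Perm.mul_apply, (f3 _).1, (f2 _).1, (f1 _).1, t0, permOf_apply (ok_t0 v.1)]
      rfl
    rw [hz0] at h0
    exact h0
  · have h := hb _ (getD_mem (i := v.2.2.1) (by rw [lengths.2.2.2.2.2.2.1]; exact v.2.2.1.2)) _
      (getD_mem (i := v.2.2.2) (by rw [lengths.2.2.2.2.2.2.2]; exact v.2.2.2.2))
    refine h.resolve_left fun hne => ?_
    rw [← Bool.not_eq_true] at hne
    apply hne
    simp only [List.all_eq_true, beq_iff_eq]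
    intro p hp
    have := congrArg Fin.val (hcomm ⟨p, base_lt hp⟩)
    rw [hval, hf, hf, hval] at this
    exact this

theorem gen_relations : gX ^ 7 = 1 ∧ gX ≠ 1 ∧ gH ^ 6 = 1 ∧ gH * gX = gX ^ 3 * gH ∧ gS ^ 2 = 1 ∧ gS ≠ 1 ∧
    gS * gH ^ 2 = gH ^ 2 * gS := by
  have h := rel_check
  simp only [Bool.and_eq_true, List.all_eq_true, List.any_eq_true, beq_iff_eq, bne_iff_ne] at h
  obtain ⟨⟨hall, ⟨p, hp, hne⟩⟩, ⟨q, hq, hqne⟩⟩ := h
  refine ⟨?_, fun e => hne ?_, ?_, ?_, ?_, fun e => hqne ?_, ?_⟩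
  · refine ext_base fun p hp => Fin.ext ?_
    simp only [pow_succ, pow_zero, one_mul, Subgroup.coe_mul, Subgroup.coe_one, Equiv.Perm.mul_apply, gX_val]
    exact (hall p hp).1.1.1.1
  · rw [← gX_val ⟨p, base_lt hp⟩, e]; rfl
  · refine ext_base fun p hp => Fin.ext ?_
    simp only [pow_succ, pow_zero, one_mul, Subgroup.coe_mul, Subgroup.coe_one, Equiv.Perm.mul_apply, gH_val]
    exact (hall p hp).1.1.1.2
  · refine ext_base fun p hp => Fin.ext ?_
    simp only [pow_succ, pow_zero, one_mul, Subgroup.coe_mul, Equiv.Perm.mul_apply, gX_val, gH_val]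
    exact (hall p hp).1.1.2
  · refine ext_base fun p hp => Fin.ext ?_
    simp only [pow_succ, pow_zero, one_mul, Subgroup.coe_mul, Subgroup.coe_one, Equiv.Perm.mul_apply, gS_val]
    exact (hall p hp).1.2
  · rw [← gS_val ⟨q, base_lt hq⟩, e]; rfl
  · refine ext_base fun p hp => Fin.ext ?_
    simp only [pow_succ, pow_zero, one_mul, Subgroup.coe_mul, Equiv.Perm.mul_apply, gS_val, gH_val]
    exact (hall p hp).2

theorem iterY_val (n : ℕ) : ∀ p : Fin 100,
    (((gX ^ n).1 p : Fin 100) : ℕ) = isPowX.iterY (comp4' autX) n p := by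
  induction n with
  | zero => intro p; rfl
  | succ n ih =>
    intro p
    rw [pow_succ, Subgroup.coe_mul, Equiv.Perm.mul_apply, ih, gX_val]
    rfl

theorem centralizer_gX {z : G100} (hz : z * gX = gX * z) : ∃ n, z = gX ^ n := by
  obtain ⟨F, hF, hg⟩ := cent_complete _ gX gX_val _ orbitX_check _ centX_check hz
  simp only [isPowX, List.any_eq_true, List.all_eq_true, beq_iff_eq] at hg
  obtain ⟨n, -, hn⟩ := hg
  exact ⟨n, ext_base fun p hp => Fin.ext (by rw [hF, iterY_val]; exact hn p hp)⟩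

theorem centralizer_gY {z : G100} (hz : z * gH ^ 2 = gH ^ 2 * z) : ∃ c ∈ centList, z = wElt c := by
  obtain ⟨F, hF, hg⟩ := cent_complete hSq (gH ^ 2) (fun p => by
    rw [pow_two, Subgroup.coe_mul, Equiv.Perm.mul_apply, gH_val, gH_val]; rfl)
    _ orbitY_check _ centY_check hz
  simp only [inCentList, List.any_eq_true, List.all_eq_true, beq_iff_eq] at hg
  obtain ⟨c, hc, hn⟩ := hg
  exact ⟨c, hc, ext_base fun p hp => Fin.ext (by rw [hF, wElt_val (ranges.2.2.2.2.1 c hc)]; exact hn p hp)⟩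

theorem subOK_mem {p : ℕ} (h : p ∈ subAll) : okP p = true := List.all_eq_true.1 subOK_check p h

/-- Transversal and generators of one level of the second chain lie in `L`. -/
theorem level_mem {L : Subgroup P100} {G T P : List ℕ} (hG : ∀ p ∈ G, permOf p ∈ L ∧ okP p = true)
    (hT : ∀ p ∈ T, okP p = true) (h : parentOK G T P = true) : ∀ p ∈ T, permOf p ∈ L := by
  simp only [parentOK, List.all_eq_true, List.mem_range, Bool.or_eq_true, Bool.and_eq_true, beq_iff_eq,
    decide_eq_true_eq] at h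
  suffices hs : ∀ n < T.length, permOf (T.getD n 0) ∈ L by
    intro p hp
    obtain ⟨n, hn, rfl⟩ := List.getElem_of_mem hp
    have := hs n hn
    rwa [List.getD_eq_getElem _ _ hn] at this
  intro n
  induction n using Nat.strong_induction_on with
  | _ n ih =>
    intro hn
    rcases h n hn with ⟨rfl, hid⟩ | ⟨⟨hc, hlt⟩, he⟩
    · convert one_mem L
      ext p
      rw [permOf_apply (hT _ (getD_mem hn))]
      exact hid p (List.mem_range.2 p.2)
    · have hgm := getD_mem (L := G) hc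
      have : permOf (T.getD n 0) = permOf (G.getD (P.getD n 0 &&& 7) 0) * permOf (T.getD (P.getD n 0 >>> 3) 0) := by
        ext p
        rw [Equiv.Perm.mul_apply, permOf_apply (hT _ (getD_mem hn)), permOf_apply (hG _ hgm).2,
          permOf_apply (hT _ (getD_mem (hlt.trans hn)))]
        exact he p (List.mem_range.2 p.2)
      rw [this]
      exact mul_mem (hG _ hgm).1 (ih _ hlt (hlt.trans hn))

theorem cert_mem {L : Subgroup P100} {G T G' : List ℕ} {C : List (ℕ × ℕ × ℕ)}
    (hG : ∀ p ∈ G, permOf p ∈ L ∧ okP p = true) (hT : ∀ p ∈ T, permOf p ∈ L ∧ okP p = true)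
    (hG' : ∀ p ∈ G', okP p = true) (h : certOK G T G' C = true) :
    ∀ p ∈ G', permOf p ∈ L ∧ okP p = true := by
  intro p hp
  refine ⟨?_, hG' p hp⟩
  obtain ⟨a, ha, rfl⟩ := List.getElem_of_mem hp
  simp only [certOK, List.all_eq_true, List.mem_range, Bool.and_eq_true, beq_iff_eq, decide_eq_true_eq] at h
  obtain ⟨⟨⟨h1, h2⟩, h3⟩, he⟩ := h a ha
  set c := C.getD a (0, 0, 0)
  have m1 := getD_mem (L := G) h1
  have m2 := getD_mem (L := T) h2
  have m3 := getD_mem (L := T) h3
  have : permOf (T.getD c.2.2 0) * permOf G'[a] = permOf (G.getD c.1 0) * permOf (T.getD c.2.1 0) := by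
    ext p
    rw [Equiv.Perm.mul_apply, Equiv.Perm.mul_apply, permOf_apply (hT _ m3).2,
      permOf_apply (hG' _ (List.getElem_mem ha)), permOf_apply (hG _ m1).2, permOf_apply (hT _ m2).2]
    have := he p (List.mem_range.2 p.2)
    rwa [List.getD_eq_getElem _ _ ha] at this
  rw [show permOf G'[a] = (permOf (T.getD c.2.2 0))⁻¹ * (permOf (G.getD c.1 0) * permOf (T.getD c.2.1 0)) by
    rw [← this, inv_mul_cancel_left]]
  exact mul_mem (inv_mem (hT _ m3).1) (mul_mem (hG _ m1).1 (hT _ m2).1)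

theorem nodup0 : levelPts0.Nodup := by decide +kernel
theorem nodup1 : levelPts1.Nodup := by decide +kernel
theorem nodup2 : levelPts2.Nodup := by decide +kernel
theorem len0' : levelPts0.length = 100 := by decide +kernel
theorem len1' : levelPts1.length = 63 := by decide +kernel
theorem len2' : levelPts2.length = 24 := by decide +kernel

/-- `x`, `h` and `s` generate. -/
theorem generate : Subgroup.closure ({gX, gH, gS} : Set G100) = ⊤ := by
  set L := (Subgroup.closure ({gX, gH, gS} : Set G100)).map G100.subtype with hL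
  suffices hle : G100 ≤ L by
    refine eq_top_iff.2 fun g _ => ?_
    obtain ⟨g', hg', he⟩ := hle g.2
    rwa [← show g' = g from Subtype.ext he]
  have hc := sub_check
  simp only [Bool.and_eq_true, beq_iff_eq] at hc
  obtain ⟨⟨⟨⟨⟨⟨⟨⟨⟨⟨⟨⟨⟨⟨⟨p0, p1⟩, p2⟩, p3⟩, c1⟩, c2⟩, c3⟩, f1⟩, f2⟩, f3⟩, l0⟩, l1⟩, l2⟩, l3⟩, len0⟩, hgen⟩ := hc
  have hok : ∀ {p}, p ∈ subAll → okP p = true := subOK_mem
  have hG0 : ∀ p ∈ subGens0, permOf p ∈ L ∧ okP p = true := by
    intro p hp
    have hp' : okP p = true := hok (by simp only [subAll, List.mem_append, hp, true_or])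
    refine ⟨?_, hp'⟩
    obtain ⟨a, ha, rfl⟩ := List.getElem_of_mem hp
    simp only [List.all_eq_true, Bool.and_eq_true, beq_iff_eq] at hgen
    have hx : ∀ (g : G100) (w : ℕ × ℕ × ℕ × ℕ), (∀ q : Fin 100, ((g.1 q : Fin 100) : ℕ) = comp4' w q) →
        (∀ q : Fin 100, im (subGens0[a]) q = comp4' w q) → g ∈ Subgroup.closure ({gX, gH, gS} : Set G100) →
        permOf subGens0[a] ∈ L := by
      intro g w h1 h2 h3
      refine ⟨g, h3, ?_⟩
      ext q
      rw [permOf_apply hp', h2, ← h1]; rfl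
    rw [len0] at ha
    rcases a with _ | _ | _ | a
    · exact hx gX autX gX_val (fun q => by rw [← (hgen q (List.mem_range.2 q.2)).1.1, List.getD_eq_getElem _ _ (by omega)])
        (Subgroup.subset_closure (by simp))
    · exact hx gH autH gH_val (fun q => by rw [← (hgen q (List.mem_range.2 q.2)).1.2, List.getD_eq_getElem _ _ (by omega)])
        (Subgroup.subset_closure (by simp))
    · exact hx gS autS gS_val (fun q => by rw [← (hgen q (List.mem_range.2 q.2)).2, List.getD_eq_getElem _ _ (by omega)])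
        (Subgroup.subset_closure (by simp))
    · omega
  have hT0 : ∀ p ∈ subTrans0, okP p = true := fun p hp => hok (by simp only [subAll, List.mem_append, hp, true_or, or_true])
  have hT1 : ∀ p ∈ subTrans1, okP p = true := fun p hp => hok (by simp only [subAll, List.mem_append, hp, true_or, or_true])
  have hT2 : ∀ p ∈ subTrans2, okP p = true := fun p hp => hok (by simp only [subAll, List.mem_append, hp, true_or, or_true])
  have hT3 : ∀ p ∈ subTrans3, okP p = true := fun p hp => hok (by simp only [subAll, List.mem_append, hp, true_or, or_true])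
  have hu0 := level_mem hG0 hT0 p0
  have hG1 := cert_mem hG0 (fun p hp => ⟨hu0 p hp, hT0 p hp⟩)
    (fun p hp => hok (by simp only [subAll, List.mem_append, hp, true_or, or_true])) c1
  have hu1 := level_mem hG1 hT1 p1
  have hG2 := cert_mem hG1 (fun p hp => ⟨hu1 p hp, hT1 p hp⟩)
    (fun p hp => hok (by simp only [subAll, List.mem_append, hp, true_or, or_true])) c2
  have hu2 := level_mem hG2 hT2 p2
  have hG3 := cert_mem hG2 (fun p hp => ⟨hu2 p hp, hT2 p hp⟩)
    (fun p hp => hok (by simp only [subAll, List.mem_append, hp, true_or, or_true])) c3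
  have hu3 := level_mem hG3 hT3 p3
  have hLle : L ≤ G100 := Subgroup.map_subtype_le _
  simp only [locOK, fixOK, List.all_eq_true, List.mem_range, Bool.and_eq_true, decide_eq_true_eq,
    beq_iff_eq] at l0 l1 l2 l3 f1 f2 f3
  obtain ⟨g0, g1, g2, g3⟩ := t_fix
  have htc := trans_check
  simp only [Bool.and_eq_true, beq_iff_eq] at htc
  obtain ⟨⟨⟨⟨_, n0⟩, n1⟩, n2⟩, n3⟩ := htc
  intro g hg
  -- successively clear the base
  have step0 : ∃ u ∈ L, (u⁻¹ * g) 0 = 0 := by
    obtain ⟨v, rfl⟩ := mem_G100 hg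
    obtain ⟨h1, h2⟩ := l0 v.1 (by rw [n0]; exact v.1.2)
    refine ⟨_, hu0 _ (getD_mem h1), ?_⟩
    rw [Equiv.Perm.mul_apply, Equiv.Perm.inv_def, Equiv.symm_apply_eq]
    apply Fin.ext
    simp only [elt, Equiv.Perm.mul_apply, (g3 _).1, (g2 _).1, (g1 _).1, g0]
    rw [permOf_apply (hT0 _ (getD_mem h1))]
    exact h2.symm
  obtain ⟨u0, hu0L, he0⟩ := step0
  have hg0 : u0⁻¹ * g ∈ G100 := mul_mem (inv_mem (hLle hu0L)) hg
  have step1 : ∀ g ∈ G100, g 0 = 0 → ∃ u ∈ L, (u⁻¹ * g) 0 = 0 ∧ (u⁻¹ * g) 1 = 1 := by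
    intro g hg hfix
    obtain ⟨v, rfl⟩ := mem_G100 hg
    obtain ⟨h1, h2⟩ := l1 v.2.1 (by rw [n1]; exact v.2.1.2)
    refine ⟨_, hu1 _ (getD_mem h1), ?_, ?_⟩
    · rw [Equiv.Perm.mul_apply, hfix, Equiv.Perm.inv_def, Equiv.symm_apply_eq]
      exact Fin.ext ((f1 _ h1 0 (by norm_num)).symm.trans (permOf_apply (hT1 _ (getD_mem h1)) 0).symm)
    · have hv0 : t0 v.1 = 1 := by
        have h00 : t0 v.1 0 = 0 := by
          have h := hfix; simp only [elt, Equiv.Perm.mul_apply, (g3 _).1, (g2 _).1, (g1 _).1] at h; exact h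
        have : v.1 = 0 := pts_inj (L := levelPts0) (n := 100) nodup0 len0' _ _ (by
          rw [← g0, ← g0, h00, t_zero.1]; rfl)
        rw [this, t_zero.1]
      rw [Equiv.Perm.mul_apply, Equiv.Perm.inv_def, Equiv.symm_apply_eq]
      apply Fin.ext
      simp only [elt, hv0, one_mul, Equiv.Perm.mul_apply, (g3 _).2.1, (g2 _).2.1, (g1 _).2]
      rw [permOf_apply (hT1 _ (getD_mem h1))]
      exact h2.symm
  obtain ⟨u1, hu1L, he10, he11⟩ := step1 _ hg0 he0
  have hg1 : u1⁻¹ * (u0⁻¹ * g) ∈ G100 := mul_mem (inv_mem (hLle hu1L)) hg0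
  have step2 : ∀ g ∈ G100, g 0 = 0 → g 1 = 1 →
      ∃ u ∈ L, (u⁻¹ * g) 0 = 0 ∧ (u⁻¹ * g) 1 = 1 ∧ (u⁻¹ * g) 2 = 2 := by
    intro g hg hfix hfix1
    obtain ⟨v, hv⟩ := mem_G100 hg
    obtain ⟨h1, h2⟩ := l2 v.2.2.1 (by rw [n2]; exact v.2.2.1.2)
    refine ⟨_, hu2 _ (getD_mem h1), ?_, ?_, ?_⟩
    · rw [Equiv.Perm.mul_apply, hfix, Equiv.Perm.inv_def, Equiv.symm_apply_eq]
      exact Fin.ext ((f2 _ h1 0 (by norm_num)).symm.trans (permOf_apply (hT2 _ (getD_mem h1)) 0).symm)
    · rw [Equiv.Perm.mul_apply, hfix1, Equiv.Perm.inv_def, Equiv.symm_apply_eq]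
      exact Fin.ext ((f2 _ h1 1 (by norm_num)).symm.trans (permOf_apply (hT2 _ (getD_mem h1)) 1).symm)
    · have h00 : t0 v.1 0 = 0 := by
        have h := hfix; rw [hv] at h; simp only [elt, Equiv.Perm.mul_apply, (g3 _).1, (g2 _).1, (g1 _).1] at h
        exact h
      have hv0 : v.1 = 0 := pts_inj (L := levelPts0) (n := 100) nodup0 len0' _ _ (by
        rw [← g0, ← g0, h00, t_zero.1]; rfl)
      have h11 : t1 v.2.1 1 = 1 := by
        have h := hfix1; rw [hv] at h
        simp only [elt, hv0, t_zero.1, one_mul, Equiv.Perm.mul_apply, (g3 _).2.1, (g2 _).2.1] at h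
        exact h
      have hv1 : v.2.1 = 0 := pts_inj (L := levelPts1) (n := 63) nodup1 len1' _ _ (by
        rw [← (g1 _).2, ← (g1 _).2, h11, t_zero.2.1]; rfl)
      rw [Equiv.Perm.mul_apply, Equiv.Perm.inv_def, Equiv.symm_apply_eq]
      apply Fin.ext
      rw [hv]
      simp only [elt, hv0, hv1, t_zero.1, t_zero.2.1, one_mul, Equiv.Perm.mul_apply, (g3 _).2.2.1, (g2 _).2.2]
      rw [permOf_apply (hT2 _ (getD_mem h1))]
      exact h2.symm
  obtain ⟨u2, hu2L, he20, he21, he22⟩ := step2 _ hg1 he10 he11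
  have hg2 : u2⁻¹ * (u1⁻¹ * (u0⁻¹ * g)) ∈ G100 := mul_mem (inv_mem (hLle hu2L)) hg1
  obtain ⟨u3, hu3L, he3⟩ : ∃ u ∈ L, u = u2⁻¹ * (u1⁻¹ * (u0⁻¹ * g)) := by
    obtain ⟨v, hv⟩ := mem_G100 hg2
    obtain ⟨h1, h2⟩ := l3 v.2.2.2 (by rw [n3]; exact v.2.2.2.2)
    refine ⟨_, hu3 _ (getD_mem h1), ?_⟩
    have := ext_base (g := ⟨_, hLle (hu3 _ (getD_mem h1))⟩) (g' := ⟨_, hg2⟩) fun p hp => ?_
    · exact congrArg Subtype.val this
    · apply Fin.ext
      show (((permOf (subTrans3.getD (subLoc3.getD v.2.2.2 0) 0)) p : Fin 100) : ℕ) = _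
      rw [permOf_apply (hT3 _ (getD_mem h1))]
      simp only [List.mem_cons, List.not_mem_nil, or_false] at hp
      rcases hp with hp | hp | hp | hp
      · obtain rfl : p = 0 := Fin.ext hp
        rw [he20]; exact f3 _ h1 0 (by norm_num)
      · obtain rfl : p = 1 := Fin.ext hp
        rw [he21]; exact f3 _ h1 1 (by norm_num)
      · obtain rfl : p = 2 := Fin.ext hp
        rw [he22]; exact f3 _ h1 2 (by norm_num)
      · obtain rfl : p = 3 := Fin.ext hp
        refine h2.trans ?_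
        have e0 : v.1 = 0 := pts_inj (L := levelPts0) (n := 100) nodup0 len0' _ _ (by
          rw [← g0, ← g0, t_zero.1]
          have := he20; rw [hv] at this
          simp only [elt, Equiv.Perm.mul_apply, (g3 _).1, (g2 _).1, (g1 _).1] at this
          rw [this]; rfl)
        have e1 : v.2.1 = 0 := pts_inj (L := levelPts1) (n := 63) nodup1 len1' _ _ (by
          rw [← (g1 _).2, ← (g1 _).2, t_zero.2.1]
          have := he21; rw [hv] at this
          simp only [elt, e0, t_zero.1, one_mul, Equiv.Perm.mul_apply, (g3 _).2.1, (g2 _).2.1] at this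
          rw [this]; rfl)
        have e2 : v.2.2.1 = 0 := pts_inj (L := levelPts2) (n := 24) nodup2 len2' _ _ (by
          rw [← (g2 _).2.2, ← (g2 _).2.2, t_zero.2.2.1]
          have := he22; rw [hv] at this
          simp only [elt, e0, e1, t_zero.1, t_zero.2.1, one_mul, Equiv.Perm.mul_apply, (g3 _).2.2.1] at this
          rw [this]; rfl)
        show levelPts3.getD (v.2.2.2 : ℕ) 0 = (((u2⁻¹ * (u1⁻¹ * (u0⁻¹ * g))) 3 : Fin 100) : ℕ)
        rw [hv]
        simp only [elt, e0, e1, e2, t_zero.1, t_zero.2.1, t_zero.2.2.1, one_mul, (g3 _).2.2.2]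
  have : g = u0 * (u1 * (u2 * u3)) := by rw [he3]; group
  rw [this]
  exact mul_mem hu0L (mul_mem hu1L (mul_mem hu2L hu3L))

theorem aut_ext {β : MulAut G100} (hx : β gX = gX) (hh : β gH = gH) (hs : β gS = gS) : β = 1 := by
  refine MulEquiv.ext fun g => ?_
  have hg : g ∈ Subgroup.closure ({gX, gH, gS} : Set G100) := generate ▸ Subgroup.mem_top g
  induction hg using Subgroup.closure_induction with
  | mem y hy => rcases hy with rfl | rfl | rfl <;> simpa
  | one => simp
  | mul a b _ _ iha ihb => rw [map_mul, iha, ihb]; rfl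
  | inv a _ iha => rw [map_inv, iha]; rfl

theorem orderOf_gX : orderOf gX = 7 := by
  haveI : Fact (Nat.Prime 7) := ⟨by norm_num⟩
  exact orderOf_eq_prime gen_relations.1 gen_relations.2.1

/-- Every automorphism is an inner one times one fixing `x` and `h`. -/
theorem reduce_aut (α : MulAut G100) : ∃ g : G100, (MulAut.conj g * α) gX = gX ∧ (MulAut.conj g * α) gH = gH := by
  obtain ⟨e1, -, e3, e4, -, -, -⟩ := gen_relations
  haveI : Fact (Nat.Prime 7) := ⟨by norm_num⟩
  have hcardG : Nat.card G100 = 604800 := card_G100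
  have hP : Nat.card (Subgroup.zpowers gX) = 7 ^ (Nat.card G100).factorization 7 := by
    rw [Nat.card_zpowers, orderOf_gX, hcardG]
    rw [show (604800 : ℕ).factorization 7 = 1 from ?_, pow_one]
    rw [show (604800 : ℕ) = 7 * 86400 by norm_num, Nat.factorization_mul (by norm_num) (by norm_num),
      Finsupp.add_apply, Nat.Prime.factorization_self (by norm_num), Nat.factorization_eq_zero_of_not_dvd (by norm_num)]
  have hQ : Nat.card (Subgroup.zpowers (α gX)) = 7 ^ (Nat.card G100).factorization 7 := by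
    rw [← hP, Nat.card_zpowers, Nat.card_zpowers, MulEquiv.orderOf_eq]
  obtain ⟨g, hg⟩ := MulAction.exists_smul_eq G100 (Sylow.ofCard _ hQ) (Sylow.ofCard _ hP)
  have hmem : g * α gX * g⁻¹ ∈ Subgroup.zpowers gX := by
    have h1 : g * α gX * g⁻¹ ∈ (g • Sylow.ofCard _ hQ : Sylow 7 G100).toSubgroup := by
      rw [Sylow.coe_subgroup_smul]
      exact ⟨α gX, Subgroup.mem_zpowers _, rfl⟩
    rw [hg] at h1
    exact h1
  obtain ⟨m, hm⟩ := Subgroup.mem_zpowers_iff.1 hmem
  -- powers of `h` move `x` to every generator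
  have hpow : ∀ n : ℕ, gH ^ n * gX * (gH ^ n)⁻¹ = gX ^ (3 ^ n) := by
    intro n
    induction n with
    | zero => simp
    | succ n ih =>
      have h3 : gH * gX * gH⁻¹ = gX ^ 3 := by rw [e4, mul_inv_cancel_right]
      calc gH ^ (n + 1) * gX * (gH ^ (n + 1))⁻¹ = gH * (gH ^ n * gX * (gH ^ n)⁻¹) * gH⁻¹ := by
            rw [pow_succ']; group
        _ = (gH * gX * gH⁻¹) ^ (3 ^ n) := by rw [ih, conj_pow]
        _ = gX ^ (3 ^ (n + 1)) := by rw [h3, ← pow_mul, ← pow_succ']
  obtain ⟨r, hr, hrn⟩ : ∃ r : ℕ, gX ^ r = gX ^ m ∧ r < 7 := by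
    refine ⟨(m % 7).toNat, ?_, by omega⟩
    rw [← zpow_natCast, Int.toNat_of_nonneg (Int.emod_nonneg _ (by norm_num)),
      show (7 : ℤ) = (orderOf gX : ℤ) by rw [orderOf_gX]; rfl, zpow_mod_orderOf]
  have hr0 : r ≠ 0 := by
    rintro rfl
    rw [pow_zero, hm] at hr
    have := congrArg orderOf hr
    rw [orderOf_one] at this
    have h7 : orderOf (g * α gX * g⁻¹) = 7 := by
      rw [show g * α gX * g⁻¹ = MulAut.conj g (α gX) from rfl, MulEquiv.orderOf_eq, MulEquiv.orderOf_eq, orderOf_gX]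
    omega
  obtain ⟨n, hn⟩ : ∃ n < 6, 3 ^ n % 7 = r := by
    interval_cases r
    · exact absurd rfl hr0
    · exact ⟨0, by norm_num, by norm_num⟩
    · exact ⟨2, by norm_num, by norm_num⟩
    · exact ⟨1, by norm_num, by norm_num⟩
    · exact ⟨4, by norm_num, by norm_num⟩
    · exact ⟨5, by norm_num, by norm_num⟩
    · exact ⟨3, by norm_num, by norm_num⟩
  set g' := (gH ^ n)⁻¹ * g with hg'
  have hx : g' * α gX * g'⁻¹ = gX := by
    have h1 : gH ^ n * gX * (gH ^ n)⁻¹ = g * α gX * g⁻¹ := by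
      rw [hpow, ← hm, ← hr, ← hn.2, ← orderOf_gX, pow_mod_orderOf]
    calc g' * α gX * g'⁻¹ = (gH ^ n)⁻¹ * (g * α gX * g⁻¹) * gH ^ n := by rw [hg']; group
      _ = gX := by rw [← h1]; group
  set β := MulAut.conj g' * α with hβ
  have hβx : β gX = gX := hx
  -- now `β h` differs from `h` by a power of `x`
  obtain ⟨i, hi⟩ := centralizer_gX (z := gH⁻¹ * β gH) (by
    have h1 : β gH * gX = gX ^ 3 * β gH := by
      have := congrArg β e4
      rwa [map_mul, map_mul, map_pow, hβx] at this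
    calc gH⁻¹ * β gH * gX = gH⁻¹ * (β gH * gX) := by group
      _ = gH⁻¹ * gX ^ 3 * β gH := by rw [h1]; group
      _ = gX * (gH⁻¹ * β gH) := by
        rw [show gH⁻¹ * gX ^ 3 = gX * gH⁻¹ from ?_]
        · group
        · rw [eq_mul_inv_iff_mul_eq, mul_assoc, ← e4, inv_mul_cancel_left])
  have hβh : β gH = gH * gX ^ i := by rw [← hi, mul_inv_cancel_left]
  -- conjugate by a power of `x`
  set j := 5 * i with hj
  refine ⟨gX ^ j * g', ?_, ?_⟩
  · show MulAut.conj (gX ^ j * g') (α gX) = gX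
    rw [map_mul, MulAut.mul_apply]
    show gX ^ j * β gX * (gX ^ j)⁻¹ = gX
    rw [hβx, ← pow_succ, pow_succ', mul_inv_cancel_right]
  · show MulAut.conj (gX ^ j * g') (α gH) = gH
    rw [map_mul, MulAut.mul_apply]
    show gX ^ j * β gH * (gX ^ j)⁻¹ = gH
    rw [hβh]
    have hcomm : gH * gX ^ (5 * j) = gX ^ j * gH := by
      have h1 := hpow 1
      rw [pow_one, pow_one] at h1
      have : gH * gX ^ (5 * j) * gH⁻¹ = gX ^ j := by
        rw [← conj_pow, h1, ← pow_mul]
        have h7 : ∀ a, gX ^ a = gX ^ (a % 7) := fun a => by rw [← orderOf_gX, pow_mod_orderOf]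
        rw [h7, h7 j, show 3 * (5 * j) % 7 = j % 7 by omega]
      rw [← this, inv_mul_cancel_right]
    calc gX ^ j * (gH * gX ^ i) * (gX ^ j)⁻¹ = gX ^ j * gH * (gX ^ i * (gX ^ j)⁻¹) := by group
      _ = gH * (gX ^ (5 * j) * gX ^ i * (gX ^ j)⁻¹) := by rw [← hcomm]; group
      _ = gH * 1 := by
        congr 1
        rw [← pow_add, mul_inv_eq_one]
        have h7 : ∀ a, gX ^ a = gX ^ (a % 7) := fun a => by rw [← orderOf_gX, pow_mod_orderOf]
        rw [h7, h7 j]
        congr 1
        omega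
      _ = gH := mul_one _

theorem stab_aut {β : MulAut G100} (hx : β gX = gX) (hh : β gH = gH) : β gS = gS ∨ β gS = gS2 := by
  obtain ⟨-, -, -, -, e5, e6, e7⟩ := gen_relations
  obtain ⟨c, hc, hce⟩ := centralizer_gY (z := β gS) (by
    have := congrArg β e7
    rwa [map_mul, map_mul, map_pow, hh] at this)
  have hrc := ranges.2.2.2.2.1 c hc
  have hf := List.all_eq_true.1 centFilter_check c hc
  simp only [Bool.or_eq_true, Bool.not_eq_true', List.all_eq_true, beq_iff_eq] at hf
  rcases hf with (hf | hf) | hf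
  · exfalso
    rw [← Bool.not_eq_true] at hf
    apply hf
    have hval := fun p : Fin 100 => wElt_val hrc p
    have hord := xs_order_check
    simp only [Bool.and_eq_true, List.all_eq_true, List.any_eq_true, beq_iff_eq, bne_iff_ne] at hord ⊢
    obtain ⟨⟨h15, p5, hp5, h5⟩, p3, hp3, h3⟩ := hord
    have hxs : ∀ (w : ℕ × ℕ × ℕ × ℕ) (g : G100), (∀ p : Fin 100, ((g.1 p : Fin 100) : ℕ) = comp4' w p) →
        ∀ p : Fin 100, ((((gX * g).1) p : Fin 100) : ℕ) = xs w p := fun w g hg p => by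
      rw [Subgroup.coe_mul, Equiv.Perm.mul_apply, gX_val, hg]; rfl
    have hS := hxs autS gS gS_val
    have hC := hxs c (wElt c) hval
    have p15 : (gX * gS) ^ 15 = 1 := by
      refine ext_base fun p hp => Fin.ext ?_
      simp only [pow_succ, pow_zero, one_mul, Subgroup.coe_mul, Subgroup.coe_one,
        Equiv.Perm.mul_apply]
      have := h15 p hp
      simp only [iter15, iter5, xs] at this
      simp only [gX_val, gS_val]
      exact this
    have n5 : (gX * gS) ^ 5 ≠ 1 := fun e => h5 (by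
      have := congrArg (fun g : G100 => ((g.1 ⟨p5, base_lt hp5⟩ : Fin 100) : ℕ)) e
      simp only [pow_succ, pow_zero, one_mul, Subgroup.coe_mul, Equiv.Perm.mul_apply, gX_val, gS_val] at this
      simp only [iter5, xs]
      exact this)
    have n3 : (gX * gS) ^ 3 ≠ 1 := fun e => h3 (by
      have := congrArg (fun g : G100 => ((g.1 ⟨p3, base_lt hp3⟩ : Fin 100) : ℕ)) e
      simp only [pow_succ, pow_zero, one_mul, Subgroup.coe_mul, Equiv.Perm.mul_apply, gX_val, gS_val] at this
      simp only [xs]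
      exact this)
    have img : β (gX * gS) = gX * wElt c := by rw [map_mul, hx, hce]
    refine ⟨⟨⟨fun p hp => ?_, fun p hp => ?_⟩, ?_⟩, ?_⟩
    · have h2 : wElt c ^ 2 = 1 := by rw [← hce, ← map_pow, e5, map_one]
      have := congrArg (fun g : G100 => ((g.1 ⟨p, base_lt hp⟩ : Fin 100) : ℕ)) h2
      simp only [pow_two, Subgroup.coe_mul, Equiv.Perm.mul_apply, hval] at this
      exact this
    · have h2 : (gX * wElt c) ^ 15 = 1 := by rw [← img, ← map_pow, p15, map_one]
      have := congrArg (fun g : G100 => ((g.1 ⟨p, base_lt hp⟩ : Fin 100) : ℕ)) h2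
      simp only [pow_succ, pow_zero, one_mul, Subgroup.coe_mul, Equiv.Perm.mul_apply, gX_val, hval] at this
      simp only [iter15, iter5, xs]
      exact this
    · by_contra hcon
      push Not at hcon
      apply n5
      apply β.injective
      rw [map_pow, map_one, img]
      refine ext_base fun p hp => Fin.ext ?_
      simp only [pow_succ, pow_zero, one_mul, Subgroup.coe_mul, Subgroup.coe_one, Equiv.Perm.mul_apply, gX_val, hval]
      have := hcon p hp
      simp only [iter5, xs] at this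
      exact this
    · by_contra hcon
      push Not at hcon
      apply n3
      apply β.injective
      rw [map_pow, map_one, img]
      refine ext_base fun p hp => Fin.ext ?_
      simp only [pow_succ, pow_zero, one_mul, Subgroup.coe_mul, Subgroup.coe_one, Equiv.Perm.mul_apply, gX_val, hval]
      have := hcon p hp
      simp only [xs] at this
      exact this
  · exact Or.inl (hce.trans (ext_base fun p hp => Fin.ext (by rw [wElt_val hrc, gS_val]; exact hf p hp)))
  · exact Or.inr (hce.trans (ext_base fun p hp => Fin.ext (by rw [wElt_val hrc, gS2_val]; exact hf p hp)))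

/-- The outer element. -/
noncomputable def tauP : P100 := permOf autTau

theorem tau_facts : (∀ p : Fin 100, ((tauP p : Fin 100) : ℕ) = im autTau p) ∧ tauP * tauP = 1 ∧
    (∀ g ∈ G100, tauP * g * tauP ∈ G100) ∧ tauP * gX.1 * tauP = gX.1 ∧ tauP * gH.1 * tauP = gH.1 ∧
    tauP * gS.1 * tauP = gS2.1 := by
  have h := tau_check
  simp only [Bool.and_eq_true, List.all_eq_true, List.mem_range, beq_iff_eq] at h
  obtain ⟨⟨⟨hok, hsq⟩, hgen⟩, hfix⟩ := h
  have hval : ∀ p : Fin 100, ((tauP p : Fin 100) : ℕ) = im autTau p := fun p => permOf_apply hok p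
  have hsq' : tauP * tauP = 1 := Equiv.ext fun p => Fin.ext (by
    rw [Equiv.Perm.mul_apply, hval, hval]; exact hsq p (List.mem_range.2 p.2))
  have hsq'' : ∀ p, tauP (tauP p) = p := fun p => by rw [← Equiv.Perm.mul_apply, hsq']; rfl
  refine ⟨hval, hsq', ?_, ?_, ?_, ?_⟩
  · have hg : ∀ k, tauP * s0 k * tauP ∈ G100 := fun k => by
      have hlt : k.val < tauImages.length := by rw [ranges.2.2.2.2.2.2]; exact k.2
      have hr := ranges.2.2.2.2.2.1 _ (show tauImages.getD k.val (0, 0, 0, 0) ∈ tauImages by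
        rw [List.getD_eq_getElem _ _ hlt]; exact List.getElem_mem hlt)
      have : tauP * s0 k * tauP = (wElt (tauImages.getD k.val (0, 0, 0, 0))).1 := by
        ext p
        rw [Equiv.Perm.mul_apply, Equiv.Perm.mul_apply, wElt_val hr, hval, s0, permOf_apply (ok_g0 k), hval]
        exact hgen k k.2 p (List.mem_range.2 p.2)
      rw [this]; exact Subtype.prop _
    intro g hg'
    induction hg' using Subgroup.closure_induction with
    | mem y hy => obtain ⟨k, rfl⟩ := hy; exact hg k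
    | one => rw [mul_one, hsq']; exact one_mem _
    | mul a b _ _ iha ihb =>
      rw [show tauP * (a * b) * tauP = (tauP * a * tauP) * (tauP * b * tauP) by
        simp only [mul_assoc, ← mul_assoc tauP tauP, hsq', one_mul]]
      exact mul_mem iha ihb
    | inv a _ iha =>
      rw [show tauP * a⁻¹ * tauP = (tauP * a * tauP)⁻¹ by
        rw [mul_inv_rev, mul_inv_rev, inv_eq_of_mul_eq_one_left hsq', mul_assoc]]
      exact inv_mem iha
  · ext p
    rw [Equiv.Perm.mul_apply, Equiv.Perm.mul_apply, hval, gX_val]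
    have := (hfix _ (List.mem_range.2 (tauP p).2)).1.1
    rw [← hval (tauP p), hsq''] at this
    rw [this, gX_val]
  · ext p
    rw [Equiv.Perm.mul_apply, Equiv.Perm.mul_apply, hval, gH_val]
    have := (hfix _ (List.mem_range.2 (tauP p).2)).1.2
    rw [← hval (tauP p), hsq''] at this
    rw [this, gH_val]
  · ext p
    rw [Equiv.Perm.mul_apply, Equiv.Perm.mul_apply, hval, gS_val]
    have := (hfix _ (List.mem_range.2 (tauP p).2)).2
    rw [← hval (tauP p), hsq''] at this
    rw [this, gS2_val]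

/-- Conjugation by the outer element. -/
noncomputable def tauAut : MulAut G100 where
  toFun g := ⟨tauP * g.1 * tauP, tau_facts.2.2.1 g g.2⟩
  invFun g := ⟨tauP * g.1 * tauP, tau_facts.2.2.1 g g.2⟩
  left_inv g := Subtype.ext (by
    show tauP * (tauP * g.1 * tauP) * tauP = g.1
    simp only [← mul_assoc, tau_facts.2.1, one_mul]; rw [mul_assoc, tau_facts.2.1, mul_one])
  right_inv g := Subtype.ext (by
    show tauP * (tauP * g.1 * tauP) * tauP = g.1
    simp only [← mul_assoc, tau_facts.2.1, one_mul]; rw [mul_assoc, tau_facts.2.1, mul_one])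
  map_mul' a b := Subtype.ext (by
    show tauP * (a.1 * b.1) * tauP = (tauP * a.1 * tauP) * (tauP * b.1 * tauP)
    simp only [mul_assoc, ← mul_assoc tauP tauP, tau_facts.2.1, one_mul])

theorem tau_notMem : tauP ∉ G100 := by
  intro h
  obtain ⟨v, hv⟩ := mem_G100 h
  have hn := List.all_eq_true.1 tau_notMem_check v.1 (List.mem_range.2 v.1.2)
  obtain ⟨f0, f1, f2, f3⟩ := t_fix
  have hok : okP autTau = true := by
    have := tau_check
    simp only [Bool.and_eq_true] at this
    exact this.1.1.1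
  have hval : ∀ p : Fin 100, im autTau p = im (tr0 v.1) (im (tr1 v.2.1) (im (tr2 v.2.2.1) (im (tr3 v.2.2.2) p))) := by
    intro p
    rw [← permOf_apply hok, show permOf autTau = tauP from rfl, hv, ← comp4'_val v p]; rfl
  have h3 : ∀ q : Fin 100, (q : ℕ) < 3 → im (tr3 v.2.2.2) q = q := fun q hq => by
    rw [← permOf_apply (ok_t3 v.2.2.2)]
    obtain rfl | rfl | rfl : q = 0 ∨ q = 1 ∨ q = 2 := by omega
    · rw [show permOf (tr3 v.2.2.2) = t3 v.2.2.2 from rfl, (f3 _).1]
    · rw [show permOf (tr3 v.2.2.2) = t3 v.2.2.2 from rfl, (f3 _).2.1]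
    · rw [show permOf (tr3 v.2.2.2) = t3 v.2.2.2 from rfl, (f3 _).2.2.1]
  have h2 : ∀ q : Fin 100, (q : ℕ) < 2 → im (tr2 v.2.2.1) q = q := fun q hq => by
    rw [← permOf_apply (ok_t2 v.2.2.1)]
    obtain rfl | rfl : q = 0 ∨ q = 1 := by omega
    · rw [show permOf (tr2 v.2.2.1) = t2 v.2.2.1 from rfl, (f2 _).1]
    · rw [show permOf (tr2 v.2.2.1) = t2 v.2.2.1 from rfl, (f2 _).2.1]
  have h1 : im (tr1 v.2.1) 0 = 0 := by
    have := permOf_apply (ok_t1 v.2.1) 0
    rw [show permOf (tr1 v.2.1) = t1 v.2.1 from rfl, (f1 _).1] at this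
    exact this.symm
  simp only [Bool.or_eq_true, bne_iff_ne, List.all_eq_true, List.any_eq_true] at hn
  have a0 := hval 0
  rw [h3 0 (by norm_num), h2 0 (by norm_num)] at a0
  simp only [Fin.val_zero, h1] at a0
  rcases hn with hn | hn
  · exact hn a0.symm
  rcases hn _ (getD_mem (i := v.2.1) (by rw [lengths.2.2.2.2.2.1]; exact v.2.1.2)) with hn | hn
  · have := hval 1
    rw [h3 1 (by norm_num), h2 1 (by norm_num)] at this
    exact hn this.symm
  rcases hn _ (getD_mem (i := v.2.2.1) (by rw [lengths.2.2.2.2.2.2.1]; exact v.2.2.1.2)) with hn | hn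
  · have := hval 2
    rw [h3 2 (by norm_num)] at this
    exact hn this.symm
  obtain ⟨p, hp, hpne⟩ := hn _ (getD_mem (i := v.2.2.2) (by rw [lengths.2.2.2.2.2.2.2]; exact v.2.2.2.2))
  exact hpne (hval ⟨p, List.mem_range.1 hp⟩).symm

/-- Only the identity centralises the group in the symmetric group. -/
theorem centralizer_trivial {z : P100} (hz : ∀ g ∈ G100, z * g = g * z) : z = 1 := by
  have h0 : z 0 = 0 := by
    by_contra hne
    have hm := List.all_eq_true.1 gen1_moves_check (z 0 : Fin 100) (List.mem_range.2 (z 0).2)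
    simp only [Bool.or_eq_true, beq_iff_eq, List.any_eq_true, bne_iff_ne, List.mem_range] at hm
    obtain ⟨a, ha, hne'⟩ := hm.resolve_left (fun e => hne (Fin.ext e))
    have hs : s1 ⟨a, ha⟩ ∈ G100 := K1_le (Subgroup.subset_closure ⟨_, rfl⟩)
    have hfix : s1 ⟨a, ha⟩ 0 = 0 := by
      obtain ⟨i, j, k, e⟩ := mem_K1 (x := s1 ⟨a, ha⟩) (Subgroup.subset_closure ⟨_, rfl⟩)
      obtain ⟨f0, f1, f2, f3⟩ := t_fix
      rw [e]; simp only [Equiv.Perm.mul_apply, (f3 _).1, (f2 _).1, (f1 _).1]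
    have := congrArg (fun f : P100 => f 0) (hz _ hs)
    simp only [Equiv.Perm.mul_apply, hfix] at this
    apply hne'
    rw [← permOf_apply (ok_g1 ⟨a, ha⟩)]
    exact congrArg Fin.val this.symm
  ext p
  obtain ⟨i, hi⟩ : ∃ i, t0 i 0 = p := by
    obtain ⟨f0, -, -, -⟩ := t_fix
    have hinj : Function.Injective fun i => t0 i 0 := fun i j e => pts_inj (L := levelPts0) (n := 100) nodup0
      len0' _ _ (by rw [← f0, ← f0]; exact congrArg Fin.val e)
    exact (Finite.injective_iff_surjective.1 hinj) p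
  have := congrArg (fun f : P100 => f 0) (hz _ (t0_mem i))
  simp only [Equiv.Perm.mul_apply, h0, hi] at this
  rw [this]; rfl

theorem card_out_G100 : Nat.card (Cfsg.Out G100) = 2 := by
  let q : MulAut G100 → Cfsg.Out G100 := fun a => QuotientGroup.mk a
  rw [Nat.card_eq_two_iff]
  refine ⟨q 1, q tauAut, fun h => ?_, Set.eq_univ_of_forall fun x => ?_⟩
  · obtain ⟨g, hg⟩ : tauAut ∈ Cfsg.Inn G100 := by
      have := QuotientGroup.eq.1 h
      simpa using this
    refine tau_notMem ?_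
    have : tauP * (g : P100) = 1 := centralizer_trivial fun y hy => by
      have h1 := congrArg Subtype.val (DFunLike.congr_fun hg ⟨y, hy⟩)
      simp only [MulAut.conj_apply, Subgroup.coe_mul, Subgroup.coe_inv] at h1
      change (g : P100) * y * (g : P100)⁻¹ = tauP * y * tauP at h1
      calc tauP * g * y = tauP * (g * y * (g : P100)⁻¹) * g := by group
        _ = y * (tauP * g) := by
          rw [h1, ← mul_assoc, ← mul_assoc, tau_facts.2.1, one_mul, mul_assoc]
    have e : tauP = (g : P100) := by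
      rw [← one_mul (g : P100), ← tau_facts.2.1, mul_assoc, this, mul_one]
    rw [e]; exact g.2
  · obtain ⟨α, rfl⟩ := QuotientGroup.mk_surjective x
    obtain ⟨g, hx, hh⟩ := reduce_aut α
    have hq : q (MulAut.conj g * α) = q α := by
      show (QuotientGroup.mk (MulAut.conj g * α) : Cfsg.Out G100) = QuotientGroup.mk α
      rw [QuotientGroup.mk_mul, (QuotientGroup.eq_one_iff _).2 (show MulAut.conj g ∈ Cfsg.Inn G100 from ⟨g, rfl⟩), one_mul]
    set β := MulAut.conj g * α
    rcases stab_aut hx hh with hs | hs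
    · left
      show (QuotientGroup.mk α : Cfsg.Out G100) = q 1
      rw [← aut_ext hx hh hs, hq]
    · right
      show (QuotientGroup.mk α : Cfsg.Out G100) = q tauAut
      have : tauAut⁻¹ * β = 1 := by
        obtain ⟨-, -, -, tx, th, ts⟩ := tau_facts
        refine aut_ext ?_ ?_ ?_
        · rw [MulAut.mul_apply, hx]; exact Subtype.ext tx
        · rw [MulAut.mul_apply, hh]; exact Subtype.ext th
        · rw [MulAut.mul_apply, hs]
          have : tauAut gS = gS2 := Subtype.ext ts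
          rw [← this]
          exact tauAut.symm_apply_apply _
      rw [inv_mul_eq_one.1 this, hq]

end Cfsg.Agent.Lib.HallJanko
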