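import Cfsg.Agent.Lib.HallJanko.HundredChecks
import Cfsg.Agent.Lib.HallJanko.PrimData

/-! # Kernel checks for primitivity on lines and for perfectness -/

set_option autoImplicit false
set_option maxRecDepth 1000000

namespace Cfsg.Agent.Lib.HallJanko

def comp4' (w : ℕ × ℕ × ℕ × ℕ) (i : ℕ) : ℕ :=
  im (tr0 w.1) (im (tr1 w.2.1) (im (tr2 w.2.2.1) (im (tr3 w.2.2.2) i)))

/-- The stabiliser elements act on lines as tabulated and fix line 0. -/
theorem stab_check :
    ((List.range 2).all fun a =>
      let w := stabWords.getD a (0, 0, 0, 0)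
      let p := stabPacked.getD a 0
      decide (w.1 < 100) && decide (w.2.1 < 63) && decide (w.2.2.1 < 24) && decide (w.2.2.2 < 4) &&
        im9 p 0 == 0 &&
        lineCols.zipIdx.all fun c =>
          let c' := lineCols.getD (im9 p c.2) 0
          decide (im9 p c.2 < 315) &&
            idxList.all fun j => ((c' >>> comp4' w j) &&& 1) == ((c.1 >>> j) &&& 1)) = true := by
  decide +kernel

theorem subTree_check :
    ((List.range 315).all fun j => j == 0 ||
      let c := subTree.getD j 0
      if c >>> 11 == 0 then subRep.contains j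
      else
        let q := (c >>> 2) &&& 511
        decide (c &&& 3 < 2) && q != 0 && decide (q < 315) &&
          decide (subTree.getD q 0 >>> 11 < c >>> 11) && im9 (stabPacked.getD (c &&& 3) 0) q == j) = true := by
  decide +kernel

def pairA (P : List ℕ) (i : ℕ) : ℕ := P.getD i 0 &&& 511
def pairB (P : List ℕ) (i : ℕ) : ℕ := P.getD i 0 >>> 9

def spanMask (P : List ℕ) (L : List ℕ) : ℕ → Bool :=
  fun m => match L with
    | [] => m == 2 ^ 315 - 1
    | e :: L =>
      let a := pairA P (e >>> 1)
      let b := pairB P (e >>> 1)
      let x := if e &&& 1 == 0 then a else b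
      let y := if e &&& 1 == 0 then b else a
      decide (e >>> 1 < P.length) && decide (x < 315) && decide (y < 315) && m.testBit x &&
        spanMask P L (m ||| (1 <<< y))

def blockOK (r : ℕ) (c : List ℕ × List ℕ × List ℕ) : Bool :=
  let P := c.1
  c.2.1.length + 1 == P.length && pairA P 0 == 0 && pairB P 0 == r &&
    (c.2.1.zipIdx.all fun s =>
      let k := s.1 &&& 3
      let i := s.1 >>> 2
      decide (k < 4) && decide (i ≤ s.2) &&
        pairA P (s.2 + 1) == im9 (genPacked.getD k 0) (pairA P i) &&
        pairB P (s.2 + 1) == im9 (genPacked.getD k 0) (pairB P i) &&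
        decide (pairA P i < 315) && decide (pairB P i < 315)) &&
    spanMask P c.2.2 1

theorem block_check :
    (subRep.length == 5 && (List.range 5).all fun n =>
      blockOK (subRep.getD n 0) (blockCerts.getD n ([], [], []))) = true := by
  decide +kernel

/-- `g * b * a = a * b` for each generator `g`. -/
theorem comm_check :
    ((List.range 4).all fun k =>
      let w := commWitness.getD k ((0, 0, 0, 0), (0, 0, 0, 0))
      decide (w.1.1 < 100) && decide (w.1.2.1 < 63) && decide (w.1.2.2.1 < 24) && decide (w.1.2.2.2 < 4) &&
        decide (w.2.1 < 100) && decide (w.2.2.1 < 63) && decide (w.2.2.2.1 < 24) && decide (w.2.2.2.2 < 4) &&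
        idxList.all fun j =>
          im (gen0 k) (comp4' w.2 (comp4' w.1 j)) == comp4' w.1 (comp4' w.2 j)) = true := by
  decide +kernel

end Cfsg.Agent.Lib.HallJanko
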