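import Cfsg.Agent.Lib.HallJanko.Hundred
import Cfsg.Agent.Lib.HallJanko.PrimChecks

/-! # `J₂` is simple -/

set_option autoImplicit false
set_option maxRecDepth 100000

namespace Cfsg.Agent.Lib.HallJanko

open Cfsg.Spor

theorem comp4'_val (v : Fin 100 × Fin 63 × Fin 24 × Fin 4) (p : Fin 100) :
    comp4' ((v.1 : ℕ), (v.2.1 : ℕ), (v.2.2.1 : ℕ), (v.2.2.2 : ℕ)) p = ((elt v p : Fin 100) : ℕ) := by
  simp only [comp4', elt, Equiv.Perm.mul_apply, t0, t1, t2, t3, permOf_apply (ok_t0 v.1),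
    permOf_apply (ok_t1 v.2.1), permOf_apply (ok_t2 v.2.2.1), permOf_apply (ok_t3 v.2.2.2)]

theorem psi_surj {x : P100} (hx : x ∈ G100) : ∃ σ : G315, psi σ = x := by
  rw [← psi_range] at hx; exact hx

theorem col_spec : (∀ (j : Fin 100) (i : Fin 315), (lineCols.getD i 0).testBit j = setMem j i) ∧
    (∀ i : Fin 315, lineCols.getD i 0 < 2 ^ 100) ∧
    ∀ i i' : Fin 315, lineCols.getD i 0 = lineCols.getD i' 0 → i = i' := by
  have hc := cols_check
  simp only [List.all_eq_true, List.mem_range, beq_iff_eq] at hc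
  have hn := cols_nodup_check
  simp only [Bool.and_eq_true, List.all_eq_true, beq_iff_eq] at hn
  have hmem : ∀ i : Fin 315, (lineCols.getD i 0, (i : ℕ)) ∈ lineCols.zipIdx := fun i => by
    rw [List.mk_mem_zipIdx_iff_getElem?, List.getD_eq_getElem _ _ (by rw [hn.1]; exact i.2),
      List.getElem?_eq_getElem]
  refine ⟨fun j i => ?_, fun i => ?_, fun i i' h => Fin.ext ?_⟩
  · rw [setMem, testBit_eq_and, testBit_eq_and, hc j j.2 _ (hmem i)]
  · have : (lineCols.all fun c => decide (c < 2 ^ 100)) = true := by decide +kernel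
    exact of_decide_eq_true (List.all_eq_true.1 this _ (getD_mem (by rw [hn.1]; exact i.2)))
  · have h1 := hn.2 _ (hmem i)
    have h2 := hn.2 _ (hmem i')
    simp only [h] at h1
    exact h1.symm.trans h2

theorem exists_stab : ∀ a < 2, ∃ σ : G315, (∀ p : Fin 100, ((psi σ p : Fin 100) : ℕ) = comp4' (stabWords.getD a (0, 0, 0, 0)) p) ∧
    ∀ i : Fin 315, ((σ.1 i : Fin 315) : ℕ) = im9 (stabPacked.getD a 0) i := by
  intro a ha
  have := List.all_eq_true.1 stab_check a (List.mem_range.2 ha)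
  simp only [Bool.and_eq_true, decide_eq_true_eq, beq_iff_eq, List.all_eq_true] at this
  obtain ⟨⟨⟨⟨⟨h0, h1⟩, h2⟩, h3⟩, -⟩, hcols⟩ := this
  set w := stabWords.getD a (0, 0, 0, 0)
  set v : Fin 100 × Fin 63 × Fin 24 × Fin 4 := (⟨_, h0⟩, ⟨_, h1⟩, ⟨_, h2⟩, ⟨_, h3⟩)
  obtain ⟨σ, hσ⟩ := psi_surj (elt_mem v)
  refine ⟨σ, fun p => by rw [hσ]; exact (comp4'_val v p).symm, fun i => ?_⟩
  have hr := rel_psi σ
  rw [hσ] at hr
  obtain ⟨hcol, hlt, hinj⟩ := col_spec
  have hn := cols_nodup_check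
  simp only [Bool.and_eq_true, List.all_eq_true, beq_iff_eq] at hn
  have hm : (lineCols.getD i 0, (i : ℕ)) ∈ lineCols.zipIdx := by
    rw [List.mk_mem_zipIdx_iff_getElem?, List.getD_eq_getElem _ _ (by rw [hn.1]; exact i.2),
      List.getElem?_eq_getElem]
  obtain ⟨hlt', hbits⟩ := hcols _ hm
  have he : σ.1 i = ⟨_, hlt'⟩ := by
    apply hinj
    apply Nat.eq_of_testBit_eq
    intro j
    by_cases hj : j < 100
    · obtain ⟨p, hp⟩ := (elt v).surjective ⟨j, hj⟩
      have hb := hbits p (List.mem_range.2 p.2)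
      have hp' : j = ((elt v p : Fin 100) : ℕ) := by rw [hp]
      rw [hp', hcol, hr, ← hcol, testBit_eq_and, testBit_eq_and, ← comp4'_val v p]
      rw [show ((v.1 : ℕ), (v.2.1 : ℕ), (v.2.2.1 : ℕ), (v.2.2.2 : ℕ)) = w from rfl, hb]
    · have hp : (2 : ℕ) ^ 100 ≤ 2 ^ j := Nat.pow_le_pow_right (by norm_num) (by omega)
      rw [Nat.testBit_lt_two_pow ((hlt _).trans_le hp), Nat.testBit_lt_two_pow ((hlt _).trans_le hp)]
  rw [he]

theorem stab_fix {a : ℕ} (ha : a < 2) : im9 (stabPacked.getD a 0) 0 = 0 := by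
  have := List.all_eq_true.1 stab_check a (List.mem_range.2 ha)
  simp only [Bool.and_eq_true, decide_eq_true_eq, beq_iff_eq] at this
  exact this.1.2

theorem genPerm_mem (k : Fin 4) : genPerm k ∈ G315 := Subgroup.subset_closure ⟨k, rfl⟩

theorem genPerm_im9 (k : Fin 4) (i : Fin 315) :
    ((genPerm k i : Fin 315) : ℕ) = im9 (genPacked.getD k 0) i := by
  have hp := genPacked_check
  simp only [List.all_eq_true, List.mem_range, beq_iff_eq] at hp
  rw [genPerm_val, hp k k.2 i i.2]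

/-- An invariant equivalence on lines linking two distinct ones links all. -/
theorem primitive_lines (R : ℕ → ℕ → Prop) (hrefl : ∀ a, R a a) (hsymm : ∀ a b, R a b → R b a)
    (htrans : ∀ a b c, R a b → R b c → R a c)
    (hinv : ∀ σ ∈ G315, ∀ a b : Fin 315, R a b → R (σ a : Fin 315) (σ b : Fin 315))
    (j : ℕ) (hj : j < 315) (hj0 : j ≠ 0) (hR : R 0 j) : ∀ i < 315, R 0 i := by
  have ht := subTree_check
  simp only [List.all_eq_true, List.mem_range, Bool.or_eq_true, beq_iff_eq] at ht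
  -- move `j` to a representative of its suborbit
  obtain ⟨r, hr, hRr⟩ : ∃ r ∈ subRep, R 0 r := by
    suffices h : ∀ n, ∀ j < 315, j ≠ 0 → subTree.getD j 0 >>> 11 = n → R 0 j → ∃ r ∈ subRep, R 0 r from
      h _ j hj hj0 rfl hR
    intro n
    induction n using Nat.strong_induction_on with
    | _ n ih =>
      intro j hj hj0 hn hR
      have := (ht j hj).resolve_left hj0
      split_ifs at this with hd
      · exact ⟨j, List.contains_iff_mem.1 this, hR⟩
      · simp only [Bool.and_eq_true, decide_eq_true_eq, bne_iff_ne, beq_iff_eq] at this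
        obtain ⟨⟨⟨⟨ha, hq0⟩, hq⟩, hdep⟩, him⟩ := this
        obtain ⟨⟨σ, hσ⟩, -, hσe⟩ := exists_stab _ ha
        refine ih _ (hn ▸ hdep) _ hq hq0 rfl ?_
        have e0 : σ⁻¹ (⟨0, by norm_num⟩ : Fin 315) = ⟨0, by norm_num⟩ := by
          rw [Equiv.Perm.inv_def, Equiv.symm_apply_eq]
          exact Fin.ext ((hσe ⟨0, by norm_num⟩).trans (stab_fix ha)).symm
        have ej : σ⁻¹ (⟨j, hj⟩ : Fin 315) = ⟨_, hq⟩ := by
          rw [Equiv.Perm.inv_def, Equiv.symm_apply_eq]
          exact Fin.ext ((hσe ⟨_, hq⟩).trans him).symm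
        have := hinv σ⁻¹ (inv_mem hσ) ⟨0, by norm_num⟩ ⟨j, hj⟩ hR
        rwa [e0, ej] at this
  -- the block certificate of that representative
  obtain ⟨n, hn, hnr⟩ := List.getElem_of_mem hr
  have hb := block_check
  simp only [Bool.and_eq_true, List.all_eq_true, List.mem_range, beq_iff_eq] at hb
  have := hb.2 n (hb.1 ▸ hn)
  rw [List.getD_eq_getElem _ _ hn, hnr] at this
  set c := blockCerts.getD n ([], [], [])
  simp only [blockOK, Bool.and_eq_true, decide_eq_true_eq, beq_iff_eq, List.all_eq_true] at this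
  obtain ⟨⟨⟨⟨hlen, hA0⟩, hB0⟩, hsteps⟩, hspan⟩ := this
  have hpairs : ∀ i < c.1.length, R (pairA c.1 i) (pairB c.1 i) := by
    intro i
    induction i using Nat.strong_induction_on with
    | _ i ih =>
      intro hi
      match i with
      | 0 => rw [hA0, hB0]; exact hRr
      | i + 1 =>
        have hi' : i < c.2.1.length := by omega
        have hm : (c.2.1[i], i) ∈ c.2.1.zipIdx := by
          rw [List.mk_mem_zipIdx_iff_getElem?, List.getElem?_eq_getElem hi']
        obtain ⟨⟨⟨⟨⟨hk, hle⟩, ha⟩, hb'⟩, hla⟩, hlb⟩ := hsteps _ hm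
        have := hinv _ (genPerm_mem ⟨_, hk⟩) ⟨_, hla⟩ ⟨_, hlb⟩ (ih _ (by simp only at hle; omega) (by simp only at hle; omega))
        rw [genPerm_im9, genPerm_im9] at this
        rw [ha, hb']
        exact this
  have hspanR : ∀ (L : List ℕ) (m : ℕ), spanMask c.1 L m = true →
      (∀ x < 315, m.testBit x = true → R 0 x) → ∀ x < 315, R 0 x := by
    intro L
    induction L with
    | nil =>
      intro m hm hR x hx
      simp only [spanMask, beq_iff_eq] at hm
      exact hR x hx (by rw [hm, Nat.testBit_two_pow_sub_one]; simpa using hx)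
    | cons e L ih =>
      intro m hm hR
      simp only [spanMask, Bool.and_eq_true, decide_eq_true_eq] at hm
      obtain ⟨⟨⟨⟨hel, hx⟩, hy⟩, hbit⟩, hrest⟩ := hm
      refine ih _ hrest fun x hx' hb' => ?_
      rw [Nat.testBit_or, Bool.or_eq_true, Nat.one_shiftLeft, Nat.testBit_two_pow] at hb'
      rcases hb' with hb' | hb'
      · exact hR x hx' hb'
      · obtain rfl := of_decide_eq_true hb'
        refine htrans _ _ _ (hR _ hx hbit) ?_
        split_ifs
        · exact hpairs _ hel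
        · exact hsymm _ _ (hpairs _ hel)
  refine hspanR _ 1 hspan fun x hx hb' => ?_
  have : x = 0 := by
    by_contra h
    rw [show (1 : ℕ) = 2 ^ 0 from rfl, Nat.testBit_two_pow] at hb'
    exact h (of_decide_eq_true hb').symm
  exact this ▸ hrefl 0

theorem genRefl_in (k : Fin 4) : genRefl k ∈ twoJ2 := Subgroup.subset_closure (genRefl_mem k)

/-- The index of a generating line. -/
def genIdx (k : Fin 4) : Fin 315 :=
  ⟨genLines.getD k 0, of_decide_eq_true (List.all_eq_true.1 gen_line_check k (List.mem_range.2 k.2))⟩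

theorem genPerm_conj {σ : Equiv.Perm (Fin 315)} (hσ : σ ∈ G315) {k l : Fin 4}
    (h : σ (genIdx k) = genIdx l) : σ * genPerm k * σ⁻¹ = genPerm l := by
  rw [← phi_range] at hσ
  obtain ⟨g, rfl⟩ := hσ
  have := phi_conj_line (genRefl_in k) (i := genIdx k) (genRefl_apply k) g (genRefl_in l)
    (f' := genRefl l) (by rw [h]; exact genRefl_apply l)
  have := congrArg phi this
  rwa [map_mul, map_mul, map_inv, phi_genRefl, phi_genRefl] at this

theorem perfect_gens (k : Fin 4) : ∃ a ∈ G315, ∃ b ∈ G315, genPerm k * b * a = a * b := by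
  have hc := List.all_eq_true.1 comm_check k (List.mem_range.2 k.2)
  simp only [Bool.and_eq_true, decide_eq_true_eq, List.all_eq_true, beq_iff_eq] at hc
  obtain ⟨⟨⟨⟨⟨⟨⟨⟨a0, a1⟩, a2⟩, a3⟩, b0⟩, b1⟩, b2⟩, b3⟩, he⟩ := hc
  set w := commWitness.getD k ((0, 0, 0, 0), (0, 0, 0, 0))
  obtain ⟨a, ha⟩ := psi_surj (elt_mem (⟨_, a0⟩, ⟨_, a1⟩, ⟨_, a2⟩, ⟨_, a3⟩))
  obtain ⟨b, hb⟩ := psi_surj (elt_mem (⟨_, b0⟩, ⟨_, b1⟩, ⟨_, b2⟩, ⟨_, b3⟩))
  refine ⟨a, a.2, b, b.2, ?_⟩
  have : (⟨genPerm k, genPerm_mem k⟩ : G315) * b * a = a * b := by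
    apply psi_injective
    rw [map_mul, map_mul, map_mul, psi_genPerm, ha, hb]
    refine Equiv.ext fun p => Fin.ext ?_
    have hp := he p (List.mem_range.2 p.2)
    simp only [Equiv.Perm.mul_apply, s0, permOf_apply (ok_g0 k)]
    rw [← comp4'_val, ← comp4'_val, ← comp4'_val, ← comp4'_val]
    exact hp
  exact congrArg Subtype.val this

theorem genPerm_genPerm (k : Fin 4) (i : Fin 315) : genPerm k (genPerm k i) = i := by
  apply Fin.ext
  rw [genPerm_val, genPerm_val]
  exact (qrefl_gen_line k.2 i.2).2.1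

theorem G315_to_root : ∀ (d : ℕ) (i : Fin 315), treeDepth (i : ℕ) = d →
    ∃ τ ∈ G315, τ i = genIdx 0 := by
  intro d
  induction d using Nat.strong_induction_on with
  | _ d ih =>
    intro i hd
    have ht := tree_check
    simp only [List.all_eq_true, List.mem_range] at ht
    have := ht i i.2
    split_ifs at this with h0
    · exact ⟨1, one_mem _, Fin.ext (of_decide_eq_true this)⟩
    · simp only [Bool.and_eq_true, decide_eq_true_eq] at this
      obtain ⟨⟨hp, hdep⟩, himg⟩ := this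
      obtain ⟨τ, hτ, h1⟩ := ih _ (hd ▸ hdep) ⟨_, hp⟩ rfl
      have hk : treeGen i < 4 := Nat.lt_succ_of_le Nat.and_le_right
      refine ⟨τ * genPerm ⟨_, hk⟩, mul_mem hτ (genPerm_mem _), ?_⟩
      have e : genPerm ⟨treeGen i, hk⟩ ⟨treeParent i, hp⟩ = i := by
        apply Fin.ext
        rw [genPerm_val]
        exact himg
      have e' : genPerm ⟨treeGen i, hk⟩ i = ⟨treeParent i, hp⟩ := by
        have := genPerm_genPerm ⟨treeGen i, hk⟩ ⟨treeParent i, hp⟩
        rwa [e] at this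
      rw [Equiv.Perm.mul_apply, e', h1]

theorem isSimpleGroup_G315 : IsSimpleGroup G315 := by
  haveI : Nontrivial G315 := by
    rw [← Finite.one_lt_card_iff_nontrivial,
      ← Nat.card_congr j2Equiv.toEquiv, card_J2]
    norm_num
  refine ⟨fun N hN => ?_⟩
  rcases N.bot_or_exists_ne_one with h | ⟨n, hn, hn1⟩
  · exact Or.inl h
  refine Or.inr ?_
  let R : ℕ → ℕ → Prop := fun a b => a = b ∨ ∃ x ∈ N, ∃ i : Fin 315, (i : ℕ) = a ∧ ((x.1 i : Fin 315) : ℕ) = b
  have hsymm : ∀ a b, R a b → R b a := by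
    rintro a b (rfl | ⟨x, hx, i, rfl, rfl⟩)
    · exact Or.inl rfl
    · exact Or.inr ⟨x⁻¹, inv_mem hx, x.1 i, rfl, by simp⟩
  have htrans : ∀ a b c, R a b → R b c → R a c := by
    rintro a b c (rfl | ⟨x, hx, i, rfl, hb⟩) h
    · exact h
    rcases h with rfl | ⟨y, hy, i', hi', rfl⟩
    · exact Or.inr ⟨x, hx, i, rfl, hb⟩
    · refine Or.inr ⟨y * x, mul_mem hy hx, i, rfl, ?_⟩
      have : x.1 i = i' := Fin.ext (hb.trans hi'.symm)
      simp [this]
  have hinv : ∀ σ ∈ G315, ∀ a b : Fin 315, R a b → R (σ a : Fin 315) (σ b : Fin 315) := by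
    rintro σ hσ a b (h | ⟨x, hx, i, hi, hb⟩)
    · rw [Fin.ext h]; exact Or.inl rfl
    · refine Or.inr ⟨⟨σ, hσ⟩ * x * ⟨σ, hσ⟩⁻¹, hN.conj_mem x hx _, σ a, rfl, ?_⟩
      obtain rfl : i = a := Fin.ext hi
      simp only [Subgroup.coe_mul, Subgroup.coe_inv, Equiv.Perm.mul_apply, Equiv.Perm.inv_def,
        Equiv.symm_apply_apply]
      rw [Fin.ext hb]
  -- some line is moved by `N`; transitivity of the whole group brings it to 0
  obtain ⟨i, hi⟩ : ∃ i, n.1 i ≠ i := by
    by_contra h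
    push Not at h
    exact hn1 (Subtype.ext (Equiv.ext h))
  have hall : ∀ a b : Fin 315, R a b := by
    obtain ⟨τ, hτ, hτi⟩ : ∃ τ ∈ G315, τ i = ⟨0, by norm_num⟩ := by
      obtain ⟨τ, hτ, h1⟩ := G315_to_root _ i rfl
      obtain ⟨τ', hτ', h2⟩ := G315_to_root _ ⟨0, by norm_num⟩ rfl
      exact ⟨τ'⁻¹ * τ, mul_mem (inv_mem hτ') hτ, by
        rw [Equiv.Perm.mul_apply, h1, ← h2, Equiv.Perm.inv_def, Equiv.symm_apply_apply]⟩
    have hR : R 0 (τ (n.1 i) : Fin 315) := by
      have := hinv τ hτ i (n.1 i) (Or.inr ⟨n, hn, i, rfl, rfl⟩)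
      rwa [hτi] at this
    have hne : ((τ (n.1 i) : Fin 315) : ℕ) ≠ 0 := fun h => hi (τ.injective (by rw [hτi]; exact Fin.ext h))
    have h0 := primitive_lines R (fun a => Or.inl rfl) hsymm htrans hinv _ (τ (n.1 i)).2 hne hR
    exact fun a b => htrans _ _ _ (hsymm _ _ (h0 a a.2)) (h0 b b.2)
  -- all generators agree modulo `N`
  set π := QuotientGroup.mk' N with hπ
  have hgen : ∀ k, π ⟨genPerm k, genPerm_mem k⟩ = π ⟨genPerm 0, genPerm_mem 0⟩ := by
    intro k
    rcases hall (genIdx 0) (genIdx k) with h | ⟨x, hx, j, hj, hxj⟩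
    · have := genPerm_conj (one_mem G315) (k := 0) (l := k) (by simpa using Fin.ext h)
      simp only [one_mul, inv_one, mul_one] at this
      simp only [this]
    · obtain rfl : j = genIdx 0 := Fin.ext hj
      have := genPerm_conj x.2 (k := 0) (l := k) (Fin.ext hxj)
      have h' : x * ⟨genPerm 0, genPerm_mem 0⟩ * x⁻¹ = ⟨genPerm k, genPerm_mem k⟩ := Subtype.ext this
      have hx1 : π x = 1 := (QuotientGroup.eq_one_iff _).2 hx
      rw [← h', map_mul, map_mul, map_inv, hx1, inv_one, one_mul, mul_one]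
  have hcyc : ∀ y : G315, π y ∈ Subgroup.zpowers (π ⟨genPerm 0, genPerm_mem 0⟩) := by
    intro y
    obtain ⟨y, hy⟩ := y
    induction hy using Subgroup.closure_induction with
    | mem z hz =>
      obtain ⟨k, rfl⟩ := hz
      exact Subgroup.mem_zpowers_iff.2 ⟨1, by rw [zpow_one]; exact (hgen k).symm⟩
    | one =>
      rw [show (⟨1, _⟩ : G315) = 1 from rfl, map_one]; exact one_mem _
    | mul a b ha hb iha ihb =>
      rw [show (⟨a * b, _⟩ : G315) = ⟨a, ha⟩ * ⟨b, hb⟩ from rfl, map_mul]; exact mul_mem iha ihb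
    | inv a ha iha =>
      rw [show (⟨a⁻¹, _⟩ : G315) = ⟨a, ha⟩⁻¹ from rfl, map_inv]; exact inv_mem iha
  obtain ⟨a, ha, b, hb, hab⟩ := perfect_gens 0
  have hab' : (⟨genPerm 0, genPerm_mem 0⟩ : G315) * ⟨b, hb⟩ * ⟨a, ha⟩ = ⟨a, ha⟩ * ⟨b, hb⟩ := Subtype.ext hab
  have h1 : π ⟨genPerm 0, genPerm_mem 0⟩ = 1 := by
    have h2 := congrArg π hab'
    rw [map_mul, map_mul, map_mul] at h2
    obtain ⟨p, hp⟩ := hcyc ⟨a, ha⟩
    obtain ⟨q, hq⟩ := hcyc ⟨b, hb⟩
    rw [← hp, ← hq, mul_assoc, ← zpow_add, ← zpow_add, add_comm q p] at h2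
    exact mul_eq_right.1 h2
  refine (Subgroup.eq_top_iff' N).2 fun y => (QuotientGroup.eq_one_iff y).1 ?_
  obtain ⟨p, hp⟩ := hcyc y
  show π y = 1
  rw [← hp, h1]
  exact one_zpow p

theorem isSimpleGroup_J2 : IsSimpleGroup J2 := j2Equiv.isSimpleGroup_congr.2 isSimpleGroup_G315

theorem J2_noncomm : ∃ a b : J2, a * b ≠ b * a := by
  by_contra h
  push Not at h
  obtain ⟨a, ha, b, hb, hab⟩ := perfect_gens 0
  have hc : a * b = b * a := by
    have := h (j2Equiv.symm ⟨a, ha⟩) (j2Equiv.symm ⟨b, hb⟩)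
    rw [← map_mul, ← map_mul] at this
    exact congrArg Subtype.val (j2Equiv.symm.injective this)
  rw [hc, mul_assoc] at hab
  have h1 : genPerm 0 = 1 := mul_eq_right.1 hab
  have hone : (List.range 315).all (fun i => genImage 0 i == i) = false := by decide +kernel
  have : (List.range 315).all (fun i => genImage 0 i == i) = true := by
    simp only [List.all_eq_true, List.mem_range, beq_iff_eq]
    intro i hi
    have := genPerm_val 0 ⟨i, hi⟩
    rw [h1] at this
    simpa using this.symm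
  rw [hone] at this
  exact Bool.false_ne_true this

end Cfsg.Agent.Lib.HallJanko
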